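import Groth.Agent.AbsFlat.Basic
import Groth.Agent.SweepSix.WEt
import Mathlib.RingTheory.Etale.Weakly

/-! Weakly étale algebras over a field. -/

set_option autoImplicit false
universe u

open TensorProduct Polynomial

namespace Groth.Agent.WEtFieldLib

variable {K : Type u} [Field K] {B : Type u} [CommRing B] [Algebra K B]

theorem forall_dvd [Algebra.WeaklyEtale K B] (a : B) : ∃ x, a = a * a * x :=
  AbsFlat.forall_dvd_of_flat (fun M _ _ => by
    let : Module K M := Module.compHom M (algebraMap K B)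
    have : IsScalarTower K B M := ⟨fun k b m => by
      rw [Algebra.smul_def, mul_smul]; rfl⟩
    exact AbsFlat.flat_of_flat_mul (Algebra.WeaklyEtale.flat_lmul' K B) M) a

theorem flat_module [Algebra.WeaklyEtale K B] (M : Type u) [AddCommGroup M] [Module B M] : Module.Flat B M :=
  AbsFlat.flat_of_forall_dvd (forall_dvd (K := K)) M

theorem isReduced [Algebra.WeaklyEtale K B] : IsReduced B := by
  refine (isReduced_iff_pow_one_lt 2 one_lt_two).2 fun a ha => ?_
  obtain ⟨x, hx⟩ := forall_dvd (K := K) a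
  rw [hx, ← pow_two, ha, zero_mul]

/-- An algebra over a weakly étale `K`-algebra which is an epimorphism is weakly étale over `K`. -/
theorem weaklyEtale_of_epi [Algebra.WeaklyEtale K B] (C : Type u) [CommRing C] [Algebra B C] [Algebra K C]
    [IsScalarTower K B C] [Algebra.IsEpi B C] : Algebra.WeaklyEtale K C := by
  have : Algebra.WeaklyEtale B C := ⟨flat_module (K := K) C, RingHom.Flat.of_bijective
    ⟨fun x y h => Algebra.IsEpi.injective_lift_mul (R := B) (A := C) (by
      have e : ∀ z : C ⊗[B] C, TensorProduct.lift (LinearMap.mul B C) z = Algebra.TensorProduct.lmul' B (S := C) z := by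
        intro z
        induction z with
        | zero => simp
        | tmul a b => simp
        | add a b ha hb => simp [map_add, ha, hb]
      rw [e, e]; exact h), fun c => ⟨c ⊗ₜ 1, by simp⟩⟩⟩
  exact Algebra.WeaklyEtale.trans K B C

theorem isEpi_of_forall_fraction {R C : Type u} [CommRing R] [Field C] [Algebra R C]
    (h : ∀ a : C, ∃ x y : R, algebraMap R C y ≠ 0 ∧ a * algebraMap R C y = algebraMap R C x) :
    Algebra.IsEpi R C := by
  refine (Algebra.isEpi_iff_forall_one_tmul_eq R C).2 fun a => ?_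
  obtain ⟨x, y, hy, hxy⟩ := h a
  calc (1 : C) ⊗ₜ[R] a = (y • (algebraMap R C y)⁻¹) ⊗ₜ[R] a := by rw [Algebra.smul_def, mul_inv_cancel₀ hy]
    _ = (algebraMap R C y)⁻¹ ⊗ₜ[R] (x • (1 : C)) := by
      rw [TensorProduct.smul_tmul, Algebra.smul_def, Algebra.smul_def, mul_one, mul_comm, hxy]
    _ = a ⊗ₜ[R] 1 := by
      rw [← TensorProduct.smul_tmul, Algebra.smul_def, ← hxy, mul_assoc, mul_inv_cancel₀ hy, mul_one]

theorem isIntegral [Algebra.WeaklyEtale K B] : Algebra.IsIntegral K B := by
  refine ⟨fun a => isAlgebraic_iff_isIntegral.1 ?_⟩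
  by_contra htr
  have hinj : Function.Injective (aeval a : K[X] →ₐ[K] B) := transcendental_iff_injective.1 htr
  obtain ⟨P, hP, hcomap⟩ := Ideal.exists_comap_eq_of_mem_minimalPrimes_of_injective
    (f := (aeval a : K[X] →ₐ[K] B).toRingHom) hinj (⊥ : Ideal K[X]) (by
      rw [IsDomain.minimalPrimes_eq_singleton_bot]; rfl)
  have hmax : P.IsMaximal := by
    refine Ideal.Quotient.maximal_of_isField P ⟨⟨0, 1, zero_ne_one⟩, mul_comm, fun {b} hb => ?_⟩
    obtain ⟨b, rfl⟩ := Ideal.Quotient.mk_surjective b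
    obtain ⟨x, hx⟩ := forall_dvd (K := K) b
    refine ⟨Ideal.Quotient.mk P x, ?_⟩
    rw [← map_mul, ← map_one (Ideal.Quotient.mk P), Ideal.Quotient.eq]
    refine (hP.mem_or_mem (x := b) ?_).resolve_left fun h => hb (Ideal.Quotient.eq_zero_iff_mem.2 h)
    have : b * (b * x - 1) = 0 := by linear_combination -hx
    rw [this]; exact P.zero_mem
  let : Field (B ⧸ P) := Ideal.Quotient.field P
  have : Algebra.IsEpi B (B ⧸ P) := Algebra.isEpi_of_surjective_algebraMap _ _ Ideal.Quotient.mk_surjective
  have : Algebra.WeaklyEtale K (B ⧸ P) := weaklyEtale_of_epi (B := B) _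
  have := SweepSix.isSeparable_of_weaklyEtale (K := K) (L := B ⧸ P)
  obtain ⟨f, hf0, hf⟩ := (Algebra.IsSeparable.isIntegral K (Ideal.Quotient.mk P a)).isAlgebraic
  apply hf0
  rw [show Ideal.Quotient.mk P a = Ideal.Quotient.mkₐ K P a from rfl, Polynomial.aeval_algHom_apply,
    Ideal.Quotient.mkₐ_eq_mk, Ideal.Quotient.eq_zero_iff_mem] at hf
  rw [← Ideal.mem_bot, ← hcomap]
  exact hf

/-- A reduced integral algebra over a field is von Neumann regular. -/
theorem forall_dvd_of_integral [IsReduced B] [Algebra.IsIntegral K B] (a : B) : ∃ x, a = a * a * x := by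
  obtain ⟨p, hp, hpa⟩ := Algebra.IsIntegral.isIntegral (R := K) a
  obtain ⟨g, hpg, hg⟩ := p.exists_eq_pow_rootMultiplicity_mul_and_not_dvd hp.ne_zero 0
  rw [map_zero, sub_zero] at hpg hg
  have hg0 : g.coeff 0 ≠ 0 := fun h => hg (X_dvd_iff.2 h)
  have h1 : a * aeval a g = 0 := by
    refine eq_zero_of_pow_eq_zero (n := p.rootMultiplicity 0 + 1) ?_
    have : aeval a p = 0 := hpa
    rw [hpg, map_mul, map_pow, aeval_X] at this
    rw [mul_pow, pow_succ a, pow_succ (aeval a g)]
    linear_combination (a * aeval a g ^ p.rootMultiplicity 0) * this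
  refine ⟨-(algebraMap K B (g.coeff 0)⁻¹ * aeval a g.divX), ?_⟩
  have h2 : aeval a g = a * aeval a g.divX + algebraMap K B (g.coeff 0) := by
    have := congrArg (aeval a) g.X_mul_divX_add
    rw [map_add, map_mul, aeval_X, aeval_C] at this
    exact this.symm
  have h3 : algebraMap K B (g.coeff 0) * algebraMap K B (g.coeff 0)⁻¹ = 1 := by
    rw [← map_mul, mul_inv_cancel₀ hg0, map_one]
  linear_combination (-a) * h3 + algebraMap K B (g.coeff 0)⁻¹ * h1 -
    (a * algebraMap K B (g.coeff 0)⁻¹) * h2

theorem weaklyEtale_subalgebra [Algebra.WeaklyEtale K B] (S : Subalgebra K B) :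
    Algebra.WeaklyEtale K S := by
  refine ⟨inferInstance, ?_⟩
  have : Algebra.WeaklyEtale B (B ⊗[K] B) := inferInstance
  have : Algebra.WeaklyEtale K (B ⊗[K] B) := Algebra.WeaklyEtale.trans K B _
  have := isReduced (K := K) (B := B ⊗[K] B)
  have := isIntegral (K := K) (B := B ⊗[K] B)
  let φ : (S ⊗[K] S) →ₐ[K] B ⊗[K] B := Algebra.TensorProduct.map S.val S.val
  have hφ : Function.Injective φ := by
    have h : Function.Injective S.val.toLinearMap := Subtype.val_injective
    have h2 := (Module.Flat.rTensor_preserves_injective_linearMap (M := B) _ h).comp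
      (Module.Flat.lTensor_preserves_injective_linearMap (M := S) _ h)
    rw [← LinearMap.coe_comp, LinearMap.rTensor_comp_lTensor] at h2
    exact h2
  have : IsReduced (S ⊗[K] S) := isReduced_of_injective φ hφ
  have : Algebra.IsIntegral K (S ⊗[K] S) := Algebra.IsIntegral.of_injective φ hφ
  show (Algebra.TensorProduct.lmul' K (S := S)).toRingHom.Flat
  let := (Algebra.TensorProduct.lmul' K (S := S)).toRingHom.toAlgebra
  exact AbsFlat.flat_of_forall_dvd (forall_dvd_of_integral (K := K)) S

end Groth.Agent.WEtFieldLib
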