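import Groth.Agent.WEtFieldLib.Basic
import Groth.Agent.IndEtLib.Basic
import Mathlib

/-! Weakly étale algebras over a field are ind-étale. -/

set_option autoImplicit false
set_option linter.style.haveILetI false
set_option backward.isDefEq.respectTransparency false
set_option backward.defeqAttrib.useBackward true
universe u

open CategoryTheory CategoryTheory.Limits TensorProduct

namespace Groth.Agent.WEtFieldLib

variable (K : Type u) [Field K] (B : Type u) [CommRing B] [Algebra K B]

theorem etale_of_fg [Algebra.WeaklyEtale K B] (S : Subalgebra K B) (hS : S.FG) : Algebra.Etale K S := by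
  haveI := weaklyEtale_subalgebra (K := K) (B := B) S
  haveI : Algebra.FormallyUnramified K S :=
    SweepSix.formallyUnramified_of_flat_lmul (Algebra.WeaklyEtale.flat_lmul' K S)
  haveI : Algebra.FiniteType K S := ⟨(Subalgebra.fg_top S).2 hS⟩
  haveI : Algebra.FormallyEtale K S := Algebra.FormallyEtale.of_formallyUnramified_of_field K S
  haveI : Algebra.FinitePresentation K S := Algebra.FinitePresentation.of_finiteType.1 inferInstance
  exact ⟨inferInstance, inferInstance⟩

theorem isIndEtale [Algebra.WeaklyEtale K B] : EtPBC.IsIndEtale K B := by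
  let J := {S : Subalgebra K B // S.FG}
  haveI : Nonempty J := ⟨⟨⊥, Subalgebra.fg_bot⟩⟩
  haveI : IsDirectedOrder J := ⟨fun i j => ⟨⟨i.1 ⊔ j.1, i.2.sup j.2⟩, Subtype.mk_le_mk.2 le_sup_left, Subtype.mk_le_mk.2 le_sup_right⟩⟩
  haveI : IsFiltered J := isFiltered_of_directed_le_nonempty J
  let D : J ⥤ CommRingCat.{u} :=
    { obj := fun j => CommRingCat.of j.1
      map := fun f => CommRingCat.ofHom (Subalgebra.inclusion (leOfHom f)).toRingHom }
  let t : (Functor.const J).obj (CommRingCat.of K) ⟶ D :=
    { app := fun j => CommRingCat.ofHom (algebraMap K j.1)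
      naturality := fun i j f => by ext r; exact congrArg Subtype.val ((Subalgebra.inclusion (leOfHom f)).commutes r).symm }
  let s : D ⟶ (Functor.const J).obj (CommRingCat.of B) :=
    { app := fun j => CommRingCat.ofHom j.1.val.toRingHom
      naturality := fun i j f => by ext x; rfl }
  have hsurj : ∀ x : B, ∃ (j : J) (y : j.1), x = (y : B) := fun x =>
    ⟨⟨Algebra.adjoin K {x}, Subalgebra.fg_def.2 ⟨{x}, Set.finite_singleton x, rfl⟩⟩, ⟨x, Algebra.subset_adjoin rfl⟩, rfl⟩
  have hinj : ∀ (i : J) (x y : i.1), (x : B) = (y : B) → ∃ (k : J) (f : i ⟶ k),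
      Subalgebra.inclusion (leOfHom f) x = Subalgebra.inclusion (leOfHom f) y :=
    fun i x y h => ⟨i, 𝟙 i, by rw [Subtype.ext h]⟩
  have hc : IsColimit (Cocone.mk _ s) :=
    haveI : PreservesColimitsOfShape J (forget CommRingCat.{u}) :=
      PreservesFilteredColimitsOfSize.preserves_filtered_colimits _
    haveI : ReflectsColimit D (forget CommRingCat.{u}) := reflectsColimit_of_reflectsIsomorphisms D _
    isColimitOfReflects (forget CommRingCat.{u})
      (Types.FilteredColimit.isColimitOf' _ _ hsurj hinj)
  rw [IndEtLib.isIndEtale_iff]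
  refine ⟨J, inferInstance, inferInstance, D, t, s, hc, fun j => ⟨?_, ?_⟩⟩
  · exact RingHom.etale_algebraMap.2 (etale_of_fg K B j.1 j.2)
  · ext r
    rfl

end Groth.Agent.WEtFieldLib
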