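import Groth.Agent.WEtFieldLib.Basic
import Groth.Agent.S1977
import Groth.Prelude.Def_EtAlgD
import Mathlib

/-! The maximal weakly étale subalgebra: further properties. -/

set_option autoImplicit false
set_option linter.style.haveILetI false
set_option maxHeartbeats 1000000
set_option backward.isDefEq.respectTransparency false
universe u

open Polynomial TensorProduct

namespace Groth.Agent.WEtFieldLib

variable {K : Type u} [Field K]

theorem separable_minpoly {B : Type u} [CommRing B] [Algebra K B] [Algebra.WeaklyEtale K B] (t : B) :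
    (minpoly K t).Separable := by
  haveI := isReduced (K := K) (B := B)
  haveI := isIntegral (K := K) (B := B)
  have hint : IsIntegral K t := Algebra.IsIntegral.isIntegral t
  set g := minpoly K t with hg
  have hg0 : g ≠ 0 := minpoly.ne_zero hint
  have hsep : ∀ q : K[X], Irreducible q → q ∣ g → q.Separable := by
    intro q hq hqg
    haveI : Fact (Irreducible q) := ⟨hq⟩
    let S := Algebra.adjoin K ({t} : Set B)
    haveI : Algebra.WeaklyEtale K S := weaklyEtale_subalgebra (K := K) S
    let ψ : K[X] →ₐ[K] S := aeval ⟨t, Algebra.subset_adjoin rfl⟩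
    have hψ : Function.Surjective ψ := by
      intro y
      obtain ⟨f, hf⟩ : (y : B) ∈ (aeval t : K[X] →ₐ[K] B).range := by
        rw [← Algebra.adjoin_singleton_eq_range_aeval]; exact y.2
      refine ⟨f, Subtype.ext ?_⟩
      rw [← hf]
      exact (Polynomial.aeval_subalgebra_coe f S ⟨t, Algebra.subset_adjoin rfl⟩).symm ▸ rfl
    have hker : RingHom.ker ψ.toRingHom ≤ RingHom.ker (aeval (AdjoinRoot.root q)).toRingHom := by
      intro f hf
      have h1 : aeval t f = 0 := by
        rw [show aeval t f = ((ψ f : S) : B) from (Polynomial.aeval_subalgebra_coe f S ⟨t, Algebra.subset_adjoin rfl⟩).symm]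
        exact congrArg Subtype.val (show ψ f = 0 from hf)
      show aeval (AdjoinRoot.root q) f = 0
      rw [AdjoinRoot.aeval_eq, AdjoinRoot.mk_eq_zero]
      exact hqg.trans (minpoly.dvd K t h1)
    let θ : S →+* AdjoinRoot q := ψ.toRingHom.liftOfSurjective hψ ⟨(aeval (AdjoinRoot.root q)).toRingHom, hker⟩
    have hθ : ∀ f, θ (ψ f) = aeval (AdjoinRoot.root q) f := fun f =>
      RingHom.liftOfRightInverse_comp_apply _ _ _ _ f
    letI : Algebra S (AdjoinRoot q) := θ.toAlgebra
    haveI : IsScalarTower K S (AdjoinRoot q) := IsScalarTower.of_algebraMap_eq fun k => by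
      rw [RingHom.algebraMap_toAlgebra, ← ψ.commutes k, hθ, AlgHom.commutes]
    haveI : Algebra.IsEpi S (AdjoinRoot q) := Algebra.isEpi_of_surjective_algebraMap _ _ fun y => by
      obtain ⟨f, rfl⟩ := AdjoinRoot.mk_surjective y
      exact ⟨ψ f, by rw [RingHom.algebraMap_toAlgebra, hθ, AdjoinRoot.aeval_eq]⟩
    haveI : Algebra.WeaklyEtale K (AdjoinRoot q) := weaklyEtale_of_epi (B := S) _
    haveI : Algebra.IsSeparable K (AdjoinRoot q) := SweepSix.isSeparable_of_weaklyEtale
    have h2 : IsSeparable K (AdjoinRoot.root q) := Algebra.IsSeparable.isSeparable K _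
    unfold IsSeparable at h2
    rw [AdjoinRoot.minpoly_root hq.ne_zero] at h2
    exact h2.of_mul_left
  classical
  by_contra hns
  rw [separable_def] at hns
  obtain ⟨q, hq, hqg, hqd⟩ : ∃ q : K[X], Irreducible q ∧ q ∣ g ∧ q ∣ derivative g := by
    have hd : ¬ IsUnit (EuclideanDomain.gcd g (derivative g)) := fun h => hns (EuclideanDomain.gcd_isUnit_iff.1 h)
    obtain ⟨q, hq, hqd⟩ := WfDvdMonoid.exists_irreducible_factor hd (fun h => hg0 (EuclideanDomain.gcd_eq_zero_iff.1 h).1)
    exact ⟨q, hq, hqd.trans (EuclideanDomain.gcd_dvd_left _ _), hqd.trans (EuclideanDomain.gcd_dvd_right _ _)⟩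
  obtain ⟨h, hh⟩ := hqg
  have h1 : q ∣ derivative q * h := by
    rw [hh, derivative_mul] at hqd
    exact (dvd_add_left (dvd_mul_right _ _)).1 hqd
  obtain ⟨h', rfl⟩ := ((hsep q hq ⟨h, hh⟩).dvd_of_dvd_mul_left h1 : q ∣ h)
  have h0 : h' ≠ 0 := fun e => hg0 (by rw [hh, e, mul_zero, mul_zero])
  have hnil : aeval t (q * h') = 0 := by
    refine IsNilpotent.eq_zero ⟨2, ?_⟩
    rw [← map_pow, show (q * h') ^ 2 = g * h' by rw [hh]; ring, map_mul, minpoly.aeval, zero_mul]
  have hdeg := natDegree_le_of_dvd (minpoly.dvd K t hnil) (mul_ne_zero hq.ne_zero h0)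
  have hqpos : 0 < q.natDegree := Polynomial.natDegree_pos_iff_degree_pos.2 (Polynomial.degree_pos_of_irreducible hq)
  rw [← hg, hh, natDegree_mul hq.ne_zero (mul_ne_zero hq.ne_zero h0)] at hdeg
  omega

variable {A : Type u} [CommRing A] [Algebra K A]

theorem le_max (S : Subalgebra K A) [hS : Algebra.WeaklyEtale K S] : S ≤ EtAlgD.maxWeaklyEtale K A :=
  le_sSup hS

theorem map_le_max {C : Type u} [CommRing C] [Algebra K C] (f : A →ₐ[K] C) (S : Subalgebra K A)
    [Algebra.WeaklyEtale K S] : S.map f ≤ EtAlgD.maxWeaklyEtale K C := by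
  have e : S.map f = (f.comp S.val).range := by rw [AlgHom.range_comp, Subalgebra.range_val]
  rw [e]
  haveI := Groth.Agent.S1977.weaklyEtale_range (f.comp S.val)
  exact le_max _

theorem max_map_val (A' : Subalgebra K A) :
    (EtAlgD.maxWeaklyEtale K A').map A'.val = EtAlgD.maxWeaklyEtale K A ⊓ A' := by
  haveI := Groth.Agent.S1977.result K A'
  haveI := Groth.Agent.S1977.result K A
  refine le_antisymm (le_inf (map_le_max _ _) ?_) fun x hx => ?_
  · rintro _ ⟨y, -, rfl⟩; exact y.2
  · let T : Subalgebra K (EtAlgD.maxWeaklyEtale K A) := A'.comap (EtAlgD.maxWeaklyEtale K A).val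
    haveI : Algebra.WeaklyEtale K T := weaklyEtale_subalgebra (K := K) T
    let j : T →ₐ[K] A' := ((EtAlgD.maxWeaklyEtale K A).val.comp T.val).codRestrict A' fun y => y.2
    haveI := Groth.Agent.S1977.weaklyEtale_range j
    exact ⟨⟨x, hx.2⟩, le_max j.range ⟨⟨⟨x, hx.1⟩, hx.2⟩, rfl⟩, rfl⟩

theorem bijOn_max :
    Set.BijOn (Ideal.Quotient.mkₐ K (nilradical A)) (EtAlgD.maxWeaklyEtale K A)
      (EtAlgD.maxWeaklyEtale K (A ⧸ nilradical A)) := by
  haveI := Groth.Agent.S1977.result K A
  haveI := Groth.Agent.S1977.result K (A ⧸ nilradical A)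
  haveI := isReduced (K := K) (B := EtAlgD.maxWeaklyEtale K A)
  refine ⟨fun x hx => map_le_max (Ideal.Quotient.mkₐ K (nilradical A)) (EtAlgD.maxWeaklyEtale K A) ⟨x, hx, rfl⟩, fun x hx y hy h => ?_, fun t ht => ?_⟩
  · have hn : IsNilpotent ((⟨x, hx⟩ : EtAlgD.maxWeaklyEtale K A) - ⟨y, hy⟩) := by
      obtain ⟨n, hn⟩ := (mem_nilradical.1 (Ideal.Quotient.eq.1 h) : IsNilpotent (x - y))
      exact ⟨n, Subtype.ext hn⟩
    exact congrArg Subtype.val (sub_eq_zero.1 hn.eq_zero)
  · let g := minpoly K (⟨t, ht⟩ : EtAlgD.maxWeaklyEtale K (A ⧸ nilradical A))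
    have hsep : g.Separable := separable_minpoly _
    have hg : aeval t g = 0 := by
      have := congrArg Subtype.val (minpoly.aeval K (⟨t, ht⟩ : EtAlgD.maxWeaklyEtale K (A ⧸ nilradical A)))
      rwa [Polynomial.aeval_subalgebra_coe] at this
    obtain ⟨x, rfl⟩ := Ideal.Quotient.mk_surjective t
    rw [show Ideal.Quotient.mk (nilradical A) x = Ideal.Quotient.mkₐ K (nilradical A) x from rfl,
      Polynomial.aeval_algHom_apply, Ideal.Quotient.mkₐ_eq_mk, Ideal.Quotient.eq_zero_iff_mem, mem_nilradical] at hg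
    have hu : IsUnit (aeval x (derivative g)) := by
      obtain ⟨a, b, hab⟩ := hsep
      have := congrArg (aeval x) hab
      rw [map_add, map_mul, map_mul, map_one] at this
      refine isUnit_of_mul_isUnit_right (x := aeval x b) ?_
      rw [show aeval x b * aeval x (derivative g) = 1 - aeval x a * aeval x g by linear_combination this]
      exact ((Commute.all _ _).isNilpotent_mul_left hg).isUnit_one_sub
    obtain ⟨r, ⟨hr, hr0⟩, -⟩ := existsUnique_nilpotent_sub_and_aeval_eq_zero hg hu
    refine ⟨r, ?_, (Ideal.Quotient.eq.2 (mem_nilradical.2 hr)).symm⟩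
    haveI : Algebra.Etale K (AdjoinRoot g) := by
      let P : StandardEtalePair K :=
        { f := g
          monic_f := minpoly.monic ((isIntegral (K := K) (B := EtAlgD.maxWeaklyEtale K (A ⧸ nilradical A))).isIntegral _)
          g := 1
          cond := by
            obtain ⟨a, b, hab⟩ := hsep
            exact ⟨b, a, 0, by rw [pow_zero, ← hab]; ring⟩ }
      haveI := P.instEtaleRing
      refine Algebra.Etale.of_equiv (P.equivAwayAdjoinRoot.trans
        (((IsLocalization.atUnit (AdjoinRoot g) (Localization.Away (AdjoinRoot.mk g (1 : K[X]))) (AdjoinRoot.mk g 1)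
          (by rw [map_one]; exact isUnit_one)).restrictScalars K).symm))
    let φ : AdjoinRoot g →ₐ[K] A := AdjoinRoot.liftAlgHom g (Algebra.ofId K A) r hr0
    haveI := Groth.Agent.S1977.weaklyEtale_range φ
    exact le_max φ.range ⟨AdjoinRoot.root g, AdjoinRoot.liftAlgHom_root _ _ _ _⟩

theorem isField_max (h : ∀ e : A, IsIdempotentElem e → e = 0 ∨ e = 1) (hn : Nontrivial A) :
    IsField (EtAlgD.maxWeaklyEtale K A) ∧ Algebra.IsSeparable K (EtAlgD.maxWeaklyEtale K A) := by
  haveI := Groth.Agent.S1977.result K A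
  let M := EtAlgD.maxWeaklyEtale K A
  have hfield : IsField M := by
    refine ⟨⟨0, 1, fun e => zero_ne_one (congrArg Subtype.val e : (0 : A) = 1)⟩, fun a b => mul_comm a b, fun {a} ha => ?_⟩
    obtain ⟨x, hx⟩ := forall_dvd (K := K) a
    refine ⟨x, ?_⟩
    have hidem : IsIdempotentElem ((a * x : M) : A) := congrArg Subtype.val (show a * x * (a * x) = a * x by linear_combination -x * hx)
    rcases h _ hidem with h0 | h1
    · refine absurd ?_ ha
      rw [hx, mul_assoc, show a * x = 0 from Subtype.ext h0, mul_zero]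
    · exact Subtype.ext h1
  refine ⟨hfield, ?_⟩
  letI : Field M := hfield.toField
  exact SweepSix.isSeparable_of_weaklyEtale

end Groth.Agent.WEtFieldLib
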